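import Cfsg.Agent.Lib.Twisted.OrbitTwist.Twist
import Cfsg.Agent.Lib.RootBN.ToBNPair

/-!
# The root data of a twisted group

The axioms for the orbit data, the intersections of the twisted group with `B`, `U`, `N`, and the order of `U`.
-/

set_option autoImplicit false

namespace Cfsg.Agent.RootBN.OTwist

variable {M : Type*} [Group M] {ι : Type*} {κ : Type*} {ι' : Type*} {κ' : Type*}
variable {D : Data M ι κ} {T : OTwist D ι' κ'}
variable (hT : T.Axioms)
include hT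

theorem U'_le_U : T.data.U ≤ D.U :=
  iSup₂_le fun o ho => inf_le_left.trans (Xorb_pos_le_U hT.toCore ho)

theorem B'_le_B : T.data.B ≤ D.B :=
  sup_le ((U'_le_U hT).trans Data.U_le_B) (inf_le_left.trans Data.H_le_B)

theorem wl'_opp (l : List κ') (o : ι') : T.data.wl l (T.opp' o) = T.opp' (T.data.wl l o) := by
  rw [← hT.orb_rep o, ← hT.opp_orb, ← orb_wl hT.toCore, Data.wl_opp hT.base, hT.opp_orb, orb_wl hT.toCore]

theorem flat_mem_Gt (l : List κ') : D.nw (T.flat l) ∈ T.Gt := by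
  rw [← nw_data]
  exact Subgroup.list_prod_mem _ fun x hx => by
    obtain ⟨j, -, rfl⟩ := List.mem_map.1 hx
    exact hT.nn'_mem j

theorem wl_flat_ext {a b : List κ'} (h : ∀ k, D.wl (T.flat a) (D.simp k) = D.wl (T.flat b) (D.simp k)) :
    D.wl (T.flat a) = D.wl (T.flat b) := by
  have h1 : D.wl ((T.flat b).reverse ++ T.flat a) = 1 := by
    by_contra hne
    obtain ⟨i, hi⟩ := Data.exists_simp_neg hT.base _ hne
    apply hi
    rw [Data.wl_append, Data.wl_reverse hT.base, Equiv.Perm.mul_apply, h i, Equiv.Perm.inv_def,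
      Equiv.symm_apply_apply]
    exact hT.base.pos_simp i
  rw [Data.wl_append, Data.wl_reverse hT.base, inv_mul_eq_one] at h1
  exact h1.symm

theorem conj_X' {j : κ'} {o : ι'} {y : M} (hy : y ∈ T.X' o) :
    T.nn' j * y * (T.nn' j)⁻¹ ∈ T.X' (T.refl' j o) := by
  refine ⟨nn'_conj hT.toCore hy.1, mem_Fix.2 ?_⟩
  rw [map_mul, map_mul, map_inv, hT.σ_nn', mem_Fix.1 hy.2]

theorem nw_conj_X' (l : List κ') {o : ι'} {y : M} (hy : y ∈ T.X' o) :
    T.data.nw l * y * (T.data.nw l)⁻¹ ∈ T.X' (T.data.wl l o) := by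
  induction l with
  | nil => simpa using hy
  | cons i l ih =>
    have h := conj_X' hT (j := i) ih
    rw [Data.nw_cons, Data.wl_cons, Equiv.Perm.mul_apply,
      show T.data.nn i * T.data.nw l * y * (T.data.nn i * T.data.nw l)⁻¹ =
        T.nn' i * (T.data.nw l * y * (T.data.nw l)⁻¹) * (T.nn' i)⁻¹ by
        rw [show T.data.nn i = T.nn' i from rfl]; group]
    exact h

theorem exists_wl' (o : ι') : ∃ (l : List κ') (j : κ'), T.data.wl l (T.simp' j) = o := by
  refine ⟨(T.reachW o).1, (T.reachW o).2, ?_⟩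
  conv_rhs => rw [← hT.reach o]
  induction (T.reachW o).1 with
  | nil => rfl
  | cons i l ih => rw [Data.wl_cons, Equiv.Perm.mul_apply, List.foldr_cons, ih]; rfl

theorem X'_ne_bot' (o : ι') : T.X' o ≠ ⊥ := by
  obtain ⟨l, j, rfl⟩ := exists_wl' hT o
  obtain ⟨y, hy⟩ := Subgroup.ne_bot_iff_exists_ne_one.1 (hT.X'_ne_bot j)
  intro h
  have h1 := nw_conj_X' hT l y.2
  rw [h, Subgroup.mem_bot, conj_eq_one_iff] at h1
  exact hy (Subtype.ext h1)

theorem X'_simp_inter {j : κ'} {o : ι'} (ho : o ≠ T.simp' j) {y : M} (h : y ∈ T.X' o)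
    (h' : y ∈ T.X' (T.simp' j)) : y = 1 := by
  by_cases hp : T.Pos' o
  · have h1 : T.nn' j * y * (T.nn' j)⁻¹ ∈ D.B ⊓ negU D := by
      refine ⟨Data.U_le_B (Xorb_pos_le_U hT.toCore (refl'_pos hT.toCore hp ho) (nn'_conj hT.toCore h.1)),
        Xorb_neg_le_negU hT.toCore (o := T.refl' j (T.simp' j)) ?_ (nn'_conj hT.toCore h'.1)⟩
      rw [refl'_simp' hT.toCore, opp'_pos hT.toCore, not_not]
      exact simp'_pos hT.toCore j
    rwa [hT.B_inf_negU, Subgroup.mem_bot, conj_eq_one_iff] at h1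
  · have h1 : y ∈ D.B ⊓ negU D :=
      ⟨Data.U_le_B (Xorb_pos_le_U hT.toCore (simp'_pos hT.toCore j) h'.1), Xorb_neg_le_negU hT.toCore hp h.1⟩
    rwa [hT.B_inf_negU, Subgroup.mem_bot] at h1

theorem wl'_reverse_mul (l : List κ') : T.data.wl l.reverse * T.data.wl l = 1 := by
  induction l with
  | nil => rfl
  | cons i l ih =>
    rw [List.reverse_cons, Data.wl_append, Data.wl_cons, Data.wl_nil, mul_one, Data.wl_cons, mul_assoc,
      ← mul_assoc (T.data.refl i), show T.data.refl i * T.data.refl i = 1 from Equiv.ext (refl'_refl' hT.toCore i),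
      one_mul, ih]

theorem data_axioms [Finite ι] : T.data.Axioms where
  pos_opp := opp'_pos hT.toCore
  opp_opp := opp'_opp' hT.toCore
  pos_simp := simp'_pos hT.toCore
  refl_simp := refl'_simp' hT.toCore
  refl_opp i o := by
    have h := wl'_opp hT [i] o
    rw [Data.wl_cons, Data.wl_nil, mul_one] at h
    exact h
  refl_refl := refl'_refl' hT.toCore
  refl_pos i o ho hne := refl'_pos hT.toCore ho hne
  simp_inj := hT.simp'_inj
  reach := exists_wl' hT
  X_inj o o' h := by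
    obtain ⟨l, j, rfl⟩ := exists_wl' hT o'
    obtain ⟨y, hy⟩ := Subgroup.ne_bot_iff_exists_ne_one.1 (hT.X'_ne_bot j)
    by_contra hne
    have h1 := nw_conj_X' hT l y.2
    rw [show T.X' (T.data.wl l (T.simp' j)) = T.X' o from h.symm] at h1
    have h2 := nw_conj_X' hT l.reverse h1
    have e : T.data.wl l.reverse (T.data.wl l (T.simp' j)) = T.simp' j := by
      rw [← Equiv.Perm.mul_apply, wl'_reverse_mul hT, Equiv.Perm.one_apply]
    have h3 : T.data.nw l.reverse * (T.data.nw l * y * (T.data.nw l)⁻¹) * (T.data.nw l.reverse)⁻¹ ∈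
        T.X' (T.simp' j) := by
      have := nw_conj_X' hT l.reverse (nw_conj_X' hT l y.2)
      rwa [e] at this
    have hne' : T.data.wl l.reverse o ≠ T.simp' j := fun h => hne ((T.data.wl l.reverse).injective
      (h.trans e.symm))
    have := X'_simp_inter hT hne' h2 h3
    rw [conj_eq_one_iff, conj_eq_one_iff] at this
    exact hy (Subtype.ext this)
  X_ne_bot := X'_ne_bot' hT
  H_le := inf_le_right
  nn_mem := hT.nn'_mem
  conj_X i o y hy := conj_X' hT hy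
  H_conj o h hh y hy := by
    refine ⟨(show T.Xorb o ≤ (T.Xorb o).comap (MulAut.conj h).toMonoidHom from
      iSup₂_le fun r hr z hz => X_le_Xorb hr (hT.base.H_conj r h hh.1 z hz)) hy.1, mem_Fix.2 ?_⟩
    rw [map_mul, map_mul, map_inv, mem_Fix.1 (Gt_le_Fix hh.2), mem_Fix.1 hy.2]
  nn_H i h hh := ⟨Data.N_conj_H hT.base (Data.nw_mem_N _) hh.1,
    T.Gt.mul_mem (T.Gt.mul_mem (hT.nn'_mem i) hh.2) (T.Gt.inv_mem (hT.nn'_mem i))⟩
  nn_sq i := by
    refine ⟨Data.mem_H_of_pos_preserving hT.base (D.N.mul_mem (Data.nw_mem_N _) (Data.nw_mem_N _))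
      ((acts_nn' hT.toCore i).mul (acts_nn' hT.toCore i)) fun r hr => ?_, T.Gt.mul_mem (hT.nn'_mem i) (hT.nn'_mem i)⟩
    rw [wl_J_sq hT.toCore]
    exact hr
  nroot_simp j := by
    show D.nw (T.flat (T.reflWord (T.simp' j))) = T.nn' j
    rw [reflWord, hT.reach_simp]
    simp [flat, nn']
  conj_nroot i o := by
    set a : M := T.nn' i * D.nw (T.flat (T.reflWord o)) * (T.nn' i)⁻¹ with ha
    set b : M := D.nw (T.flat (T.reflWord (T.refl' i o)))
    refine ⟨a * b⁻¹, ⟨Data.mul_inv_mem_H hT.base ?_ (Data.nw_mem_N _) ?_ (Data.acts_nw hT.base _),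
      T.Gt.mul_mem (T.Gt.mul_mem (T.Gt.mul_mem (hT.nn'_mem i) (flat_mem_Gt hT _))
        (T.Gt.inv_mem (hT.nn'_mem i))) (T.Gt.inv_mem (flat_mem_Gt hT _))⟩, ?_⟩
    · exact D.N.mul_mem (D.N.mul_mem (Data.nw_mem_N _) (Data.nw_mem_N _)) (D.N.inv_mem (Data.nw_mem_N _))
    · have h := ((acts_nn' hT.toCore i).mul (Data.acts_nw hT.base (T.flat (T.reflWord o)))).mul (acts_nn' hT.toCore i).inv
      rw [wl_J_inv hT.toCore] at h
      rw [← wl_flat_ext hT (hT.reach_refl i o), flat_cons, flat_append, flat_singleton, Data.wl_append,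
        Data.wl_append, ← mul_assoc]
      exact h
    · show a = _ * b
      rw [inv_mul_cancel_right]
  simp_normal i o ho hne y hy z hz := by
    obtain ⟨R, hR, hlong⟩ := hT.cover i
    refine mem_Urad'_of_fixed hT.toCore (R := R) ⟨hR, hlong⟩ ?_ ?_ ?_ ?_
    · intro h
      obtain ⟨o', ho', e⟩ := List.mem_map.1 h
      have := congrArg (T.refl' i) e
      rw [refl'_refl' hT.toCore, refl'_simp' hT.toCore] at this
      exact (opp'_pos hT.toCore _).1 (this ▸ roots_pos hT.toCore hR.1 o' ho') (simp'_pos hT.toCore i)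
    · exact D.U.mul_mem (D.U.mul_mem (Xorb_pos_le_U hT.toCore (simp'_pos hT.toCore i) hy.1)
        (Xorb_pos_le_U hT.toCore ho hz.1)) (D.U.inv_mem (Xorb_pos_le_U hT.toCore (simp'_pos hT.toCore i) hy.1))
    · rw [map_mul, map_mul, map_inv, mem_Fix.1 hy.2, mem_Fix.1 hz.2]
    · have hz' : z ∈ T.Rad i := (show T.Xorb o ≤ T.Rad i from iSup₂_le fun r hr =>
        X_le_Rad ((hT.pos_orb r).2 (hr ▸ ho)) (fun e => hne (hr ▸ e))) hz.1
      exact (Subgroup.mem_normalizer_iff.1 (Xorb_le_normalizer_Rad hT.toCore i hy.1) z).1 hz'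
  rank_one j y hy hy1 := by
    obtain ⟨a, ha, h, hh, b, hb, e⟩ := hT.rank_one' j y hy hy1
    refine ⟨a, ha, h, ⟨hh, ?_⟩, b, hb, e⟩
    rw [show h = a⁻¹ * y * b⁻¹ * (T.nn' j)⁻¹ by rw [e]; group]
    exact T.Gt.mul_mem (T.Gt.mul_mem (T.Gt.mul_mem (T.Gt.inv_mem (X'_le_Gt _ ha)) (X'_le_Gt _ hy))
      (T.Gt.inv_mem (X'_le_Gt _ hb))) (T.Gt.inv_mem (hT.nn'_mem j))
  neg_not_mem o ho := by
    rw [eq_bot_iff, ← hT.B_inf_negU]
    rintro y ⟨hy, hyB⟩
    exact ⟨B'_le_B hT hyB, Xorb_neg_le_negU hT.toCore ho hy.1⟩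

theorem inf_Gt_U [Finite ι] [Nonempty κ'] : D.U ⊓ T.Gt = T.data.U := by
  obtain ⟨R, hR⟩ := hT.cover (Classical.arbitrary κ')
  refine le_antisymm ?_ (le_inf (U'_le_U hT) (iSup₂_le fun o _ => X'_le_Gt o))
  rintro u ⟨hu, hG⟩
  exact mem_U'_of_fixed hT.toCore (R := Classical.arbitrary κ' :: R) hR hu (mem_Fix.1 (Gt_le_Fix hG))

theorem wl'_eq_one_iff (l : List κ') : T.data.wl l = 1 ↔ D.wl (T.flat l) = 1 := by
  constructor
  · intro h
    refine Data.acts_unique hT.base (Data.acts_nw hT.base _) (Data.acts_H hT.base ?_)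
    refine Data.mem_H_of_pos_preserving hT.base (Data.nw_mem_N _) (Data.acts_nw hT.base _) fun r hr => ?_
    rw [hT.pos_orb, orb_wl hT.toCore, h]
    exact (hT.pos_orb r).1 hr
  · intro h
    ext o
    rw [← hT.orb_rep o, ← orb_wl hT.toCore, h]
    rfl

theorem cell'_subset [Finite ι] (l : List κ') : T.data.cell (T.data.wl l) ⊆ D.cell (D.wl (T.flat l)) := by
  intro g hg
  obtain ⟨b, hb, c, hc, rfl⟩ := (Data.mem_cell_iff (data_axioms hT) (Data.nw_mem_N l)
    (Data.acts_nw (data_axioms hT) l)).1 hg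
  rw [nw_data]
  exact Data.mul_mem_cell (Data.mem_cell_of (Data.nw_mem_N _) (Data.acts_nw hT.base _))
    (B'_le_B hT hb) (B'_le_B hT hc)

theorem inf_Gt_B [Finite ι] [Finite ι'] : D.B ⊓ T.Gt = T.data.B := by
  have ax := data_axioms hT
  refine le_antisymm ?_ (le_inf (B'_le_B hT) (Data.B_le_grp ax))
  rintro g ⟨hgB, hgG⟩
  obtain ⟨l, hl⟩ := Data.exists_cell ax hgG
  have h1 : g ∈ D.cell (D.wl ([] : List κ)) := (Data.mem_cell_one hT.base).2 hgB
  have h2 := Data.cell_disjoint hT.base (cell'_subset hT l hl) h1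
  rw [Data.wl_nil, ← wl'_eq_one_iff hT] at h2
  rw [h2] at hl
  exact (Data.mem_cell_one ax).1 hl

theorem inf_Gt_N [Finite ι] [Finite ι'] : D.N ⊓ T.Gt = T.data.N := by
  have ax := data_axioms hT
  refine le_antisymm ?_ (le_inf ?_ (Data.N_le_grp ax))
  · rintro g ⟨hgN, hgG⟩
    obtain ⟨l, hl⟩ := Data.exists_cell ax hgG
    obtain ⟨τ, hτ⟩ := Data.exists_acts hT.base hgN
    have h := Data.cell_disjoint hT.base (Data.mem_cell_of hgN hτ) (cell'_subset hT l hl)
    rw [h] at hτ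
    have h3 : g * (T.data.nw l)⁻¹ ∈ T.data.H := by
      refine ⟨?_, T.Gt.mul_mem hgG (T.Gt.inv_mem ((Data.N_le_grp ax) (Data.nw_mem_N l)))⟩
      rw [nw_data]
      exact Data.mul_inv_mem_H hT.base hgN (Data.nw_mem_N _) hτ (Data.acts_nw hT.base _)
    have := T.data.N.mul_mem (Data.H_le_N h3) (Data.nw_mem_N l)
    rwa [inv_mul_cancel_right] at this
  · rw [Data.N, Subgroup.closure_le]
    rintro x (hx | ⟨i, rfl⟩)
    exacts [Data.H_le_N hx.1, Data.nw_mem_N _]

theorem U_inf_H [Finite ι] [Nonempty κ'] : D.U ⊓ D.H = ⊥ := by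
  obtain ⟨R, hR, hlong⟩ := hT.cover (Classical.arbitrary κ')
  set n := D.nw (T.flat (Classical.arbitrary κ' :: R).reverse) with hn
  rw [Subgroup.eq_bot_iff_forall]
  rintro h ⟨hu, hh⟩
  have h1 : n * h * n⁻¹ ∈ D.B ⊓ negU D := by
    refine ⟨Data.H_le_B (Data.nw_H hT.base _ hh), ?_⟩
    exact (show D.U ≤ (negU D).comap (MulAut.conj n).toMonoidHom from
      iSup₂_le fun r hr z hz => le_iSup₂ (f := fun r (_ : ¬ D.Pos r) => D.X r) _ (hlong r hr)
        ((Data.acts_nw hT.base _ r z).2 hz)) hu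
  rwa [hT.B_inf_negU, Subgroup.mem_bot, conj_eq_one_iff] at h1

/-- An element of the core of `B` in the twisted group is in `H` and centralises all root subgroups. -/
theorem core_mem [Finite ι] [Finite ι'] [Nonempty κ'] {c : T.Gt}
    (hc : c ∈ ((D.B ⊓ T.Gt).subgroupOf T.Gt).normalCore) :
    (c : M) ∈ D.H ∧ ∀ o, ∀ y ∈ T.X' o, (c : M) * y = y * c := by
  obtain ⟨R, hR, hlong⟩ := hT.cover (Classical.arbitrary κ')
  set n := D.nw (T.flat (Classical.arbitrary κ' :: R).reverse) with hn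
  have hH : ∀ x ∈ ((D.B ⊓ T.Gt).subgroupOf T.Gt).normalCore, (x : M) ∈ D.H := by
    intro x hx
    have hxB : (x : M) ∈ D.B := (Subgroup.mem_subgroupOf.1 (Subgroup.normalCore_le _ hx)).1
    have h' := Subgroup.normalCore_le _
      ((Subgroup.normalCore_normal _).conj_mem x hx ⟨n, flat_mem_Gt hT _⟩)
    have hnB : n * x * n⁻¹ ∈ D.B := by
      simpa using (Subgroup.mem_subgroupOf.1 h').1
    obtain ⟨u, hu, h, hh, e⟩ := (Data.mem_B_iff hT.base).1 hxB
    have h1 : n * u * n⁻¹ ∈ D.B ⊓ negU D := by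
      refine ⟨?_, ?_⟩
      · rw [show n * u * n⁻¹ = (n * x * n⁻¹) * (n * h * n⁻¹)⁻¹ by rw [e]; group]
        exact D.B.mul_mem hnB (D.B.inv_mem (Data.H_le_B (Data.nw_H hT.base _ hh)))
      · exact (show D.U ≤ (negU D).comap (MulAut.conj n).toMonoidHom from
          iSup₂_le fun r hr z hz => le_iSup₂ (f := fun r (_ : ¬ D.Pos r) => D.X r) _ (hlong r hr)
            ((Data.acts_nw hT.base _ r z).2 hz)) hu
    rw [hT.B_inf_negU, Subgroup.mem_bot, conj_eq_one_iff] at h1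
    rw [e, h1, one_mul]
    exact hh
  refine ⟨hH c hc, fun o y hy => ?_⟩
  have h1 := hH _ ((Subgroup.normalCore_normal _).conj_mem c hc ⟨y, X'_le_Gt o hy⟩)
  simp only [Subgroup.coe_mul, Subgroup.coe_inv] at h1
  have h2 : (c : M) * y * (c : M)⁻¹ * y⁻¹ ∈ D.H := by
    have := D.H.mul_mem (hH c hc) (D.H.inv_mem h1)
    simpa [mul_assoc] using this
  have h3 : (c : M) * y * (c : M)⁻¹ * y⁻¹ ∈ T.Xorb o :=
    (T.Xorb o).mul_mem ((show T.Xorb o ≤ (T.Xorb o).comap (MulAut.conj (c : M)).toMonoidHom from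
      iSup₂_le fun r hr z hz => X_le_Xorb hr (hT.base.H_conj r _ (hH c hc) z hz)) hy.1)
      ((T.Xorb o).inv_mem hy.1)
  have h4 : (c : M) * y * (c : M)⁻¹ * y⁻¹ = 1 := by
    by_cases hp : T.Pos' o
    · rw [← Subgroup.mem_bot, ← U_inf_H hT]
      exact ⟨Xorb_pos_le_U hT.toCore hp h3, h2⟩
    · rw [← Subgroup.mem_bot, ← hT.B_inf_negU]
      exact ⟨Data.H_le_B h2, Xorb_neg_le_negU hT.toCore hp h3⟩
  rwa [mul_inv_eq_one, mul_inv_eq_iff_eq_mul] at h4

/-! ### The order of `U` -/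

omit hT in
/-- Tuples along a list of orbits. -/
def tupleEquiv (o : ι') (os : List ι') :
    T.X' o × {ys : List M // List.Forall₂ (fun o y => y ∈ T.X' o) os ys} ≃
      {ys : List M // List.Forall₂ (fun o y => y ∈ T.X' o) (o :: os) ys} where
  toFun p := ⟨p.1.1 :: p.2.1, .cons p.1.2 p.2.2⟩
  invFun
    | ⟨y :: ys, h⟩ => (⟨y, (List.forall₂_cons.1 h).1⟩, ⟨ys, (List.forall₂_cons.1 h).2⟩)
  left_inv p := rfl
  right_inv
    | ⟨y :: ys, h⟩ => rfl

omit hT in
theorem card_tuples : ∀ os : List ι',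
    Nat.card {ys : List M // List.Forall₂ (fun o y => y ∈ T.X' o) os ys} =
      (os.map fun o => Nat.card (T.X' o)).prod
  | [] => by
    rw [List.map_nil, List.prod_nil, Nat.card_eq_one_iff_exists]
    exact ⟨⟨[], .nil⟩, fun ⟨ys, h⟩ => Subtype.ext (List.forall₂_nil_left_iff.1 h)⟩
  | o :: os => by
    rw [List.map_cons, List.prod_cons, ← card_tuples os, ← Nat.card_prod, Nat.card_congr (tupleEquiv o os)]

theorem card_U' [Finite ι] {R : List κ'} (hR : T.Longest R) :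
    Nat.card T.data.U = ((T.roots R).map fun o => Nat.card (T.X' o)).prod := by
  rw [← card_tuples]
  symm
  refine Nat.card_congr (Equiv.ofBijective (fun p => (⟨p.1.prod, prod_mem_of_forall₂ p.2
    (fun o ho => Data.X_le_U (D := T.data) (roots_pos hT.toCore hR.1 o ho))⟩ : T.data.U)) ⟨?_, ?_⟩)
  · rintro ⟨ys, hys⟩ ⟨ys', hys'⟩ e
    exact Subtype.ext (factor_unique hT.toCore hR.1 (hys.imp fun _ _ h => h.1) (hys'.imp fun _ _ h => h.1)
      (congrArg Subtype.val e))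
  · rintro ⟨u, hu⟩
    obtain ⟨ys, hys, e⟩ := exists_fixed_factor hT.toCore hR (U'_le_U hT hu)
      (mem_Fix.1 (Gt_le_Fix ((iSup₂_le fun o _ => X'_le_Gt o : T.data.U ≤ T.Gt) hu)))
    exact ⟨⟨ys, hys⟩, Subtype.ext e.symm⟩

theorem card_B' [Finite ι] [Nonempty κ'] [Finite ι'] :
    Nat.card T.data.B = Nat.card T.data.U * Nat.card T.data.H := by
  rw [← Nat.card_prod]
  symm
  refine Nat.card_congr (Equiv.ofBijective (fun p : T.data.U × T.data.H => (⟨p.1.1 * p.2.1,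
    T.data.B.mul_mem (Data.U_le_B p.1.2) (Data.H_le_B p.2.2)⟩ : T.data.B)) ⟨?_, ?_⟩)
  · rintro ⟨⟨u, hu⟩, h, hh⟩ ⟨⟨v, hv⟩, k, hk⟩ e
    have e' : u * h = v * k := congrArg Subtype.val e
    have e2 : v⁻¹ * u = k * h⁻¹ := by rw [eq_mul_inv_iff_mul_eq, mul_assoc, e', inv_mul_cancel_left]
    have : v⁻¹ * u ∈ D.U ⊓ D.H :=
      ⟨D.U.mul_mem (D.U.inv_mem (U'_le_U hT hv)) (U'_le_U hT hu),
        e2 ▸ D.H.mul_mem hk.1 (D.H.inv_mem hh.1)⟩
    rw [U_inf_H hT, Subgroup.mem_bot, inv_mul_eq_one] at this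
    subst this
    exact Prod.ext rfl (Subtype.ext (mul_left_cancel e'))
  · rintro ⟨g, hg⟩
    obtain ⟨u, hu, h, hh, rfl⟩ := (Data.mem_B_iff (data_axioms hT)).1 hg
    exact ⟨(⟨u, hu⟩, ⟨h, hh⟩), rfl⟩

end Cfsg.Agent.RootBN.OTwist
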