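/-
The root-subgroup setup of a Chevalley group inside the group itself (rather than inside GL), so
that endomorphisms of the group can act on it.
-/
import Cfsg.Agent.Lib.Chev.BNCore

set_option autoImplicit false

namespace Cfsg.Agent.Chev.BNSetup

open Cfsg.Lie

variable {F : Type*} [Field F] {D : ChevalleyDatum} (hG : Good D)

theorem ne'_mem_group {r : ℕ} (hr : r < D.nroots) (t : F) : ne' hG r t ∈ D.group F :=
  Subgroup.mul_mem _ (Subgroup.mul_mem _ (xe_mem_group hG hr t) (xe_mem_group hG (hG.neg_lt hr) _))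
    (xe_mem_group hG hr t)

/-- The data inside the group. -/
def gdata (F : Type*) [Field F] : RootBN.Data ↥(D.group F) (Fin D.nroots) (Fin D.rank) where
  X r := ((data hG F).X r).subgroupOf (D.group F)
  H := ((data hG F).H).subgroupOf (D.group F)
  nn i := ⟨(data hG F).nn i, ne'_mem_group hG (hG.simple_lt i.2) 1⟩
  nroot r := ⟨(data hG F).nroot r, ne'_mem_group hG r.2 1⟩
  refl := (data hG F).refl
  opp := (data hG F).opp
  simp := (data hG F).simp
  Pos := (data hG F).Pos

theorem gdata_wl (l : List (Fin D.rank)) : (gdata hG F).wl l = (data hG F).wl l := rfl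

theorem coe_nw (l : List (Fin D.rank)) :
    (((gdata hG F).nw l : ↥(D.group F)) : GL D.Idx F) = (data hG F).nw l := by
  induction l with
  | nil => rfl
  | cons i l ih => rw [RootBN.Data.nw_cons, RootBN.Data.nw_cons, Subgroup.coe_mul, ih]; rfl

theorem data_X_le_group (r : Fin D.nroots) : (data hG F).X r ≤ D.group F := by
  rw [← data_grp (F := F) hG]
  exact RootBN.Data.X_le_grp r

theorem map_gdata_iSup (P : Fin D.nroots → Prop) :
    (⨆ (r : Fin D.nroots) (_ : P r), (gdata hG F).X r).map (D.group F).subtype =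
      ⨆ (r : Fin D.nroots) (_ : P r), (data hG F).X r := by
  simp only [Subgroup.map_iSup, gdata,
    Subgroup.map_subgroupOf_eq_of_le (data_X_le_group hG _)]

theorem mem_gdata_iSup (P : Fin D.nroots → Prop) {y : ↥(D.group F)} :
    y ∈ (⨆ (r : Fin D.nroots) (_ : P r), (gdata hG F).X r) ↔
      (y : GL D.Idx F) ∈ ⨆ (r : Fin D.nroots) (_ : P r), (data hG F).X r := by
  rw [← map_gdata_iSup hG P, ← Subgroup.coe_subtype,
    Subgroup.mem_map_iff_mem (Subgroup.subtype_injective _)]

variable {tabs simps : List ℕ} (hf : Facts D tabs simps)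
include hf

theorem map_gdata_U : (gdata hG F).U.map (D.group F).subtype = D.posUnipotent F := by
  rw [← data_U hG hf]
  exact map_gdata_iSup hG _

theorem map_gdata_H : (gdata hG F).H.map (D.group F).subtype = D.diagonalSubgroup F :=
  Subgroup.map_subgroupOf_eq_of_le
    ((le_sup_right : D.diagonalSubgroup F ≤ D.borelSubgroup F).trans (borel_le_group hG hf))

theorem map_gdata_B : (gdata hG F).B.map (D.group F).subtype = D.borelSubgroup F := by
  rw [RootBN.Data.B, Subgroup.map_sup, map_gdata_U hG hf, map_gdata_H hG hf]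
  rfl

theorem map_gdata_N : (gdata hG F).N.map (D.group F).subtype = D.monomialSubgroup F := by
  rw [← data_N hG hf, RootBN.Data.N, MonoidHom.map_closure, RootBN.Data.N]
  congr 1
  rw [Set.image_union, ← Set.range_comp]
  congr 1
  exact Subgroup.coe_map (D.group F).subtype (gdata hG F).H ▸
    congrArg SetLike.coe (map_gdata_H hG hf)

theorem mem_gdata_B {y : ↥(D.group F)} :
    y ∈ (gdata hG F).B ↔ (y : GL D.Idx F) ∈ (data hG F).B := by
  rw [data_B hG hf, ← map_gdata_B hG hf, ← Subgroup.coe_subtype,
    Subgroup.mem_map_iff_mem (Subgroup.subtype_injective _)]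

theorem gdata_axioms : (gdata hG F).Axioms := by
  have ax := axioms (F := F) hG hf
  exact
  { pos_opp := ax.pos_opp
    opp_opp := ax.opp_opp
    pos_simp := ax.pos_simp
    refl_simp := ax.refl_simp
    refl_opp := ax.refl_opp
    refl_refl := ax.refl_refl
    refl_pos := ax.refl_pos
    simp_inj := ax.simp_inj
    reach := ax.reach
    X_inj := fun r s h => ax.X_inj (by
      rw [← Subgroup.map_subgroupOf_eq_of_le (data_X_le_group (F := F) hG r),
        ← Subgroup.map_subgroupOf_eq_of_le (data_X_le_group (F := F) hG s)]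
      exact congrArg (Subgroup.map _) h)
    X_ne_bot := fun r h => ax.X_ne_bot r (by
      rw [← Subgroup.map_subgroupOf_eq_of_le (data_X_le_group (F := F) hG r)]
      exact (congrArg (Subgroup.map _) h).trans (Subgroup.map_bot _))
    H_le := by
      intro y _
      have := mem_gdata_iSup (F := F) hG (fun _ => True) (y := y)
      simp only [iSup_pos] at this
      exact this.2 ((data_grp hG).ge y.2)
    nn_mem := by
      intro i
      have := mem_gdata_iSup (F := F) hG (fun _ => True) (y := (gdata hG F).nn i)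
      simp only [iSup_pos] at this
      exact this.2 (ax.nn_mem i)
    conj_X := fun i r y hy => ax.conj_X i r y hy
    H_conj := fun r h hh y hy => ax.H_conj r h hh y hy
    nn_H := fun i h hh => ax.nn_H i h hh
    nn_sq := fun i => ax.nn_sq i
    nroot_simp := fun i => Subtype.ext (ax.nroot_simp i)
    conj_nroot := fun i r => by
      obtain ⟨h, hh, e⟩ := ax.conj_nroot i r
      exact ⟨⟨h, (data_grp hG).le (ax.H_le hh)⟩, hh, Subtype.ext e⟩
    simp_normal := fun i r hr hne y hy z hz =>
      (mem_gdata_iSup hG _).2 (ax.simp_normal i r hr hne y hy z hz)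
    rank_one := fun i y hy hy1 => by
      obtain ⟨a, ha, h, hh, b, hb, e⟩ := ax.rank_one i y hy fun h => hy1 (Subtype.ext h)
      exact ⟨⟨a, data_X_le_group hG _ ha⟩, ha, ⟨h, (data_grp hG).le (ax.H_le hh)⟩, hh,
        ⟨b, data_X_le_group hG _ hb⟩, hb, Subtype.ext e⟩
    neg_not_mem := fun r hr => by
      rw [Subgroup.eq_bot_iff_forall]
      rintro y ⟨hy, hyB⟩
      exact Subtype.ext ((Subgroup.eq_bot_iff_forall _).1 (ax.neg_not_mem r hr) _
        ⟨hy, (mem_gdata_B hG hf).1 hyB⟩) }

/-! ### Characteristic two: the representatives of the Weyl group are exact -/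

variable [CharP F 2]

theorem nn_conj_xe (i : Fin D.rank) {r : ℕ} (hr : r < D.nroots) (t : F) :
    (data hG F).nn i * xe hG r t * ((data hG F).nn i)⁻¹ = xe hG (D.reflectRoot i.val r) t := by
  obtain ⟨e, he, hx, -⟩ := exists_conj hG (F := F) i.2 hr
  have h1 : e = 1 := by
    rcases mul_self_eq_one_iff.1 he with h | h
    · exact h
    · rw [h, CharTwo.neg_eq]
  have := hx t
  rw [h1, one_mul] at this
  exact this

theorem nw_conj_xe (l : List (Fin D.rank)) (r : Fin D.nroots) (t : F) :
    (data hG F).nw l * xe hG r.val t * ((data hG F).nw l)⁻¹ =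
      xe hG ((data hG F).wl l r).val t := by
  induction l with
  | nil => simp
  | cons i l ih =>
    rw [RootBN.Data.nw_cons, RootBN.Data.wl_cons, Equiv.Perm.mul_apply, data_refl,
      ← nn_conj_xe hG hf i ((data hG F).wl l r).2, ← ih]
    group

/-- In characteristic two the representative of a Weyl group element does not depend on the word. -/
theorem nw_eq_of_wl_eq {l l' : List (Fin D.rank)} (h : (data hG F).wl l = (data hG F).wl l') :
    (data hG F).nw l = (data hG F).nw l' := by
  have ax := axioms (F := F) hG hf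
  have hH : (data hG F).nw l * ((data hG F).nw l')⁻¹ ∈ (data hG F).H :=
    RootBN.Data.mul_inv_mem_H ax (RootBN.Data.nw_mem_N l) (RootBN.Data.nw_mem_N l')
      (RootBN.Data.acts_nw ax l) (h ▸ RootBN.Data.acts_nw ax l')
  refine mul_inv_eq_one.1 (eq_one_of_centralizes hG hf hH fun r hr => ?_)
  obtain ⟨s, hs⟩ := ((data hG F).wl l').surjective ⟨r, hr⟩
  have e1 := nw_conj_xe hG hf l s (1 : F)
  have e2 := nw_conj_xe hG hf l' s (1 : F)
  rw [hs] at e2
  rw [h, hs] at e1
  rw [← mul_inv_eq_iff_eq_mul]
  conv_lhs => rw [← e2]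
  conv_rhs => rw [← e1]
  group

theorem gdata_nw_eq {l l' : List (Fin D.rank)} (h : (gdata hG F).wl l = (gdata hG F).wl l') :
    (gdata hG F).nw l = (gdata hG F).nw l' :=
  Subtype.ext (by rw [coe_nw, coe_nw]; exact nw_eq_of_wl_eq hG hf h)

end Cfsg.Agent.Chev.BNSetup
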