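/-
Root-subgroup setups pushed along an injective homomorphism, and the order formula with root
subgroups of different orders.
-/
import Cfsg.Agent.Lib.RootBN.ToBNPair

set_option autoImplicit false

namespace Cfsg.Agent.RootBN.Data

variable {M : Type*} [Group M] {M' : Type*} [Group M'] {ι : Type*} {κ : Type*} {D : Data M ι κ}

/-- The image of a setup. -/
def image (D : Data M ι κ) (f : M →* M') : Data M' ι κ where
  X r := (D.X r).map f
  H := D.H.map f
  nn i := f (D.nn i)
  nroot r := f (D.nroot r)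
  refl := D.refl
  opp := D.opp
  simp := D.simp
  Pos := D.Pos

theorem image_U (f : M →* M') : (D.image f).U = D.U.map f := by
  simp [Data.U, Data.image, Subgroup.map_iSup]

theorem image_Urad (f : M →* M') (i : κ) : (D.image f).Urad i = (D.Urad i).map f := by
  simp [Data.Urad, Data.image, Subgroup.map_iSup]

theorem image_grp (f : M →* M') : (D.image f).grp = D.grp.map f := by
  simp [Data.grp, Data.image, Subgroup.map_iSup]

theorem image_B (f : M →* M') : (D.image f).B = D.B.map f := by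
  rw [Data.B, Data.B, Subgroup.map_sup, image_U]
  rfl

theorem image_N (f : M →* M') : (D.image f).N = D.N.map f := by
  rw [Data.N, Data.N, MonoidHom.map_closure, Set.image_union, ← Set.range_comp]
  rfl

theorem image_axioms (ax : D.Axioms) {f : M →* M'} (hf : Function.Injective f) :
    (D.image f).Axioms where
  pos_opp := ax.pos_opp
  opp_opp := ax.opp_opp
  pos_simp := ax.pos_simp
  refl_simp := ax.refl_simp
  refl_opp := ax.refl_opp
  refl_refl := ax.refl_refl
  refl_pos := ax.refl_pos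
  simp_inj := ax.simp_inj
  reach := ax.reach
  X_inj r s h := ax.X_inj (Subgroup.map_injective hf h)
  X_ne_bot r h := ax.X_ne_bot r (Subgroup.map_injective hf (h.trans (Subgroup.map_bot f).symm))
  H_le := by
    rw [image_grp]
    exact Subgroup.map_mono ax.H_le
  nn_mem i := by
    rw [image_grp]
    exact ⟨_, ax.nn_mem i, rfl⟩
  conj_X i r := by
    rintro _ ⟨y, hy, rfl⟩
    exact ⟨_, ax.conj_X i r y hy, by simp [image]⟩
  H_conj r := by
    rintro _ ⟨h, hh, rfl⟩ _ ⟨y, hy, rfl⟩
    exact ⟨_, ax.H_conj r h hh y hy, by simp⟩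
  nn_H i := by
    rintro _ ⟨h, hh, rfl⟩
    exact ⟨_, ax.nn_H i h hh, by simp [image]⟩
  nn_sq i := ⟨_, ax.nn_sq i, by simp [image]⟩
  nroot_simp i := congrArg f (ax.nroot_simp i)
  conj_nroot i r := by
    obtain ⟨h, hh, e⟩ := ax.conj_nroot i r
    exact ⟨f h, ⟨h, hh, rfl⟩, by simp [image, ← map_mul, ← map_inv, e]⟩
  simp_normal i r hr hne := by
    rintro _ ⟨y, hy, rfl⟩ _ ⟨z, hz, rfl⟩
    rw [image_Urad]
    exact ⟨_, ax.simp_normal i r hr hne y hy z hz, by simp⟩
  rank_one i := by
    rintro _ ⟨y, hy, rfl⟩ hy1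
    obtain ⟨a, ha, h, hh, b, hb, e⟩ := ax.rank_one i y hy (fun h => hy1 (by simp [h]))
    exact ⟨f a, ⟨a, ha, rfl⟩, f h, ⟨h, hh, rfl⟩, f b, ⟨b, hb, rfl⟩, by simp [image, e]⟩
  neg_not_mem r hr := by
    rw [image_B]
    show (D.X r).map f ⊓ D.B.map f = ⊥
    rw [← Subgroup.map_inf _ _ _ hf, ax.neg_not_mem r hr, Subgroup.map_bot]

variable (ax : D.Axioms)
include ax

/-- The number of cosets in a cell along an ascending word. -/
theorem card_cosets_word [Finite ι] : ∀ d : List κ,
    (∀ (a : κ) (e : List κ), a :: e <:+ d → D.Pos (D.wl e.reverse (D.simp a))) →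
    Nat.card (D.cosets (D.wl d)) = (d.map fun i => Nat.card (D.X (D.simp i))).prod
  | [], _ => by rw [wl_nil, card_cosets_one ax, List.map_nil, List.prod_nil]
  | a :: d, h => by
    have hpos := h a d (List.suffix_refl _)
    rw [wl_reverse ax] at hpos
    rw [wl_cons, card_cosets_step ax d hpos, List.map_cons, List.prod_cons,
      card_cosets_word d fun b e he => h b e (he.trans (List.suffix_cons a d))]

/-- The order of the group as a sum over cells. -/
theorem card_grp_sum [Finite ι] [Finite M] :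
    Nat.card D.grp = Nat.card D.B * ∑ σ ∈ D.weyl, Nat.card (D.cosets σ) := by
  classical
  have hset : (QuotientGroup.mk '' (D.grp : Set M) : Set (M ⧸ D.B)) = ⋃ σ ∈ D.weyl, D.cosets σ := by
    ext x
    simp only [Set.mem_image, SetLike.mem_coe, Set.mem_iUnion]
    constructor
    · rintro ⟨g, hg, rfl⟩
      obtain ⟨l, hl⟩ := exists_cell ax hg
      exact ⟨_, mem_weyl.2 ⟨l, rfl⟩, mem_cosets.2 hl⟩
    · rintro ⟨σ, hσ, g, hg, rfl⟩
      obtain ⟨l, rfl⟩ := mem_weyl.1 hσ
      exact ⟨g, cell_subset_grp ax l hg, rfl⟩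
  have hdisj : (D.weyl : Set (Equiv.Perm ι)).PairwiseDisjoint D.cosets := by
    intro σ hσ τ hτ hne
    rw [Function.onFun, Set.disjoint_left]
    rintro x hx hx'
    obtain ⟨g, rfl⟩ := QuotientGroup.mk_surjective x
    obtain ⟨l, rfl⟩ := mem_weyl.1 hσ
    obtain ⟨l', rfl⟩ := mem_weyl.1 hτ
    exact hne (cell_disjoint ax (mem_cosets.1 hx) (mem_cosets.1 hx'))
  have hcount : Nat.card (QuotientGroup.mk '' (D.grp : Set M) : Set (M ⧸ D.B)) =
      ∑ σ ∈ D.weyl, Nat.card (D.cosets σ) := by
    have := Finset.card_biUnion (s := D.weyl) (t := fun σ => (Set.toFinite (D.cosets σ)).toFinset)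
      (fun σ hσ τ hτ hne => by
        simpa [Finset.disjoint_left, Set.disjoint_left] using hdisj hσ hτ hne)
    rw [hset, Nat.card_eq_card_finite_toFinset (Set.toFinite _)]
    rw [show (Set.toFinite (⋃ σ ∈ D.weyl, D.cosets σ)).toFinset =
      D.weyl.biUnion fun σ => (Set.toFinite (D.cosets σ)).toFinset by ext; simp, this]
    refine Finset.sum_congr rfl fun σ _ => ?_
    rw [← Nat.card_eq_card_finite_toFinset]
  rw [← hcount, ← QuotientGroup.card_preimage_mk]
  refine Nat.card_congr (Equiv.setCongr ?_)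
  ext g
  simp only [Set.mem_preimage, Set.mem_image, SetLike.mem_coe]
  refine ⟨fun hg => ⟨g, hg, rfl⟩, ?_⟩
  rintro ⟨g', hg', e⟩
  simpa using D.grp.mul_mem hg' (B_le_grp ax (QuotientGroup.eq.1 e))

end Cfsg.Agent.RootBN.Data
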